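import Cfsg.Agent.H127.S3530.KerBotA
import Cfsg.Agent.H881.S3530.Three

/-!
# S3530: no odd kernel (helper127)
-/

set_option autoImplicit false
set_option linter.unusedSectionVars false

namespace Cfsg.Agent.H389.RSq

open Subgroup

universe u

variable {m : ℕ} {σ : Fin 5 → ℕ} {X Y : Type u} [Group X] [Finite X] [Group Y] [Finite Y] {f : X →* Y}
  {K L : Subgroup Y}

/-- no odd kernel -/
theorem RR.ker_eq_bot (h : RR m Y K L) (S : Sig m σ) (hm : 1 ≤ m) (hcl : Cl m X) (hf : Function.Surjective f)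
    (hs : Group.IsSolvable f.ker) (hodd : Odd (Nat.card f.ker)) : f.ker = ⊥ :=
  H127KerBot.ker_eq_bot_of h S hm (fun _ _ _ _ hcl hf hV hmin => h.no_chief_three S hm hcl hf hV hmin) hcl hf hs hodd

end Cfsg.Agent.H389.RSq
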