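import Cfsg.Agent.H127.S3530.NoChief

/-!
# S3530: no odd kernel, modulo `RR.no_chief_three` (helper127)
-/

set_option autoImplicit false
set_option linter.unusedSectionVars false

namespace Cfsg.Agent.H389.RSq

open Subgroup
open Cfsg.Agent.H389.JSq (Has)

universe u

namespace H127KerBot

/-- a solvable minimal normal subgroup is elementary abelian -/
theorem elemAb {X : Type u} [Group X] [Finite X] {V : Subgroup X} [hVn : V.Normal] (hsol : Group.IsSolvable V)
    (hVb : V ≠ ⊥) (hmin : ∀ W : Subgroup X, W.Normal → W ≤ V → W = ⊥ ∨ W = V) :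
    ∃ w, w.Prime ∧ Cfsg.IsElementaryAbelian w V := by
  have hcomm : ∀ x ∈ V, ∀ y ∈ V, x * y = y * x := by
    have h1 : ⁅V, V⁆ = ⊥ := by
      rcases hmin ⁅V, V⁆ inferInstance (commutator_le_right V V) with h | h
      · exact h
      · exfalso
        have hnt : Nontrivial V := (Subgroup.nontrivial_iff_ne_bot V).2 hVb
        have h2 : (⊤ : Subgroup V) ≠ ⊥ := top_ne_bot
        have h3 := Group.IsSolvable.commutator_lt_of_ne_bot h2
        have h4 : (⁅(⊤ : Subgroup V), (⊤ : Subgroup V)⁆ : Subgroup V).map V.subtype = V := by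
          rw [Subgroup.map_commutator, ← MonoidHom.range_eq_map, Subgroup.range_subtype, h]
        have h5 : (⊤ : Subgroup V).map V.subtype = V := by
          rw [← MonoidHom.range_eq_map, Subgroup.range_subtype]
        have h6 : (⁅(⊤ : Subgroup V), (⊤ : Subgroup V)⁆ : Subgroup V) = ⊤ :=
          Subgroup.map_injective V.subtype_injective (h4.trans h5.symm)
        exact h3.ne h6
    intro x hx y hy
    have h2 := Subgroup.commutator_mem_commutator hx hy
    rw [h1, mem_bot, commutatorElement_eq_one_iff_mul_comm] at h2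
    exact h2
  have hcard : Nat.card V ≠ 1 := fun e => hVb (card_eq_one.mp e)
  obtain ⟨w, hw, hwd⟩ := Nat.exists_prime_and_dvd hcard
  have : Fact w.Prime := ⟨hw⟩
  refine ⟨w, hw, ⟨⟨fun a b => Subtype.ext (hcomm a a.2 b b.2)⟩⟩, ?_⟩
  let W : Subgroup X :=
    { carrier := {x | x ∈ V ∧ x ^ w = 1}
      mul_mem' := by
        rintro a b ⟨ha, ha'⟩ ⟨hb, hb'⟩
        refine ⟨mul_mem ha hb, ?_⟩
        rw [(show Commute a b from hcomm a ha b hb).mul_pow, ha', hb', one_mul]
      one_mem' := ⟨one_mem _, one_pow _⟩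
      inv_mem' := by
        rintro a ⟨ha, ha'⟩
        exact ⟨inv_mem ha, by rw [inv_pow, ha', inv_one]⟩ }
  have hWn : W.Normal := by
    constructor
    rintro x ⟨hx, hx'⟩ g
    refine ⟨hVn.conj_mem x hx g, ?_⟩
    rw [conj_pow, hx', mul_one, mul_inv_cancel]
  obtain ⟨x, hx⟩ := exists_prime_orderOf_dvd_card' (G := V) w hwd
  have hxW : (x : X) ∈ W := by
    refine ⟨x.2, ?_⟩
    have h1 : x ^ w = 1 := by rw [← hx]; exact pow_orderOf_eq_one x
    exact congrArg Subtype.val h1
  rcases hmin W hWn (fun y hy => hy.1) with h1 | h1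
  · exfalso
    rw [h1, mem_bot] at hxW
    have h2 : x = 1 := Subtype.ext hxW
    rw [h2, orderOf_one] at hx
    exact hw.one_lt.ne hx
  · intro a ha
    rw [← h1] at ha
    exact ha.2

variable {m : ℕ} {σ : Fin 5 → ℕ} {X Y : Type u} [Group X] [Finite X] [Group Y] [Finite Y] {f : X →* Y}
  {K L : Subgroup Y}

/-- the statement `RR.no_chief_three` -/
def ThreeP (m : ℕ) (Y : Type u) [Group Y] : Prop :=
  ∀ (X : Type u) [Group X] [Finite X] (f : X →* Y), Cl m X → Function.Surjective f →
    Cfsg.IsElementaryAbelian 3 f.ker → (∀ W : Subgroup X, W.Normal → W ≤ f.ker → W = ⊥ ∨ W = f.ker) → f.ker = ⊥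

/-- no odd kernel -/
theorem ker_eq_bot_of (h : RR m Y K L) (S : Sig m σ) (hm : 1 ≤ m) (h3 : ThreeP m Y) (hcl : Cl m X)
    (hf : Function.Surjective f) (hs : Group.IsSolvable f.ker) (hodd : Odd (Nat.card f.ker)) : f.ker = ⊥ := by
  by_contra hne
  obtain ⟨M, ⟨hM, hMf⟩, hmax⟩ := Set.Finite.exists_maximal (s := {M : Subgroup X | M.Normal ∧ M < f.ker})
    (Set.toFinite _) ⟨⊥, inferInstance, bot_lt_iff_ne_bot.mpr hne⟩
  set p : X →* X ⧸ M := QuotientGroup.mk' M with hp
  have hps : Function.Surjective p := QuotientGroup.mk'_surjective M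
  have hMk : ∀ x ∈ M, f x = 1 := fun x hx => hMf.le hx
  set g : X ⧸ M →* Y := QuotientGroup.lift M f hMk with hg
  have hgp : ∀ x, g (p x) = f x := fun x => QuotientGroup.lift_mk' M hMk x
  have hgs : Function.Surjective g := fun y => by
    obtain ⟨x, rfl⟩ := hf y
    exact ⟨p x, hgp x⟩
  have hcomap : g.ker.comap p = f.ker := by
    ext x
    rw [mem_comap, MonoidHom.mem_ker, MonoidHom.mem_ker, hgp]
  have hker : g.ker = f.ker.map p := by
    rw [← hcomap, map_comap_eq_self_of_surjective hps]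
  have hgne : g.ker ≠ ⊥ := by
    intro e
    rw [e, MonoidHom.comap_bot, hp, QuotientGroup.ker_mk'] at hcomap
    exact hMf.ne hcomap
  have hmin : ∀ W : Subgroup (X ⧸ M), W.Normal → W ≤ g.ker → W = ⊥ ∨ W = g.ker := by
    intro W hW hWg
    have hW1 : (W.comap p).Normal := hW.comap p
    have hW2 : W.comap p ≤ f.ker := by rw [← hcomap]; exact comap_mono hWg
    have hMW : M ≤ W.comap p := by
      intro x hx
      rw [mem_comap, show p x = 1 from (QuotientGroup.eq_one_iff x).mpr hx]
      exact one_mem _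
    rcases eq_or_lt_of_le hW2 with h1 | h1
    · right
      rw [hker, ← h1, map_comap_eq_self_of_surjective hps]
    · left
      have h2 : W.comap p = M := le_antisymm (hmax ⟨hW1, h1⟩ hMW) hMW
      rw [← map_comap_eq_self_of_surjective hps W, h2, Subgroup.map_eq_bot_iff, hp, QuotientGroup.ker_mk']
  have hgsol : Group.IsSolvable g.ker := by
    rw [hker]
    exact Group.isSolvable_of_surjective (p.subgroupMap_surjective f.ker)
  have hgodd : Odd (Nat.card g.ker) := by
    rw [hker]
    exact hodd.of_dvd_nat (card_dvd_of_surjective _ (p.subgroupMap_surjective f.ker))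
  have hcl' : Cl m (X ⧸ M) := hcl.quotient M
  obtain ⟨w, hw, hE⟩ := elemAb (V := g.ker) hgsol hgne hmin
  have hE' : IsPGroup w g.ker := by
    have : Fact w.Prime := ⟨hw⟩
    intro x
    refine ⟨1, ?_⟩
    rw [pow_one]
    exact Subtype.ext (hE.2 x x.2)
  by_cases hw3 : w = 3
  · subst hw3
    exact hgne (h3 _ g hcl' hgs hE hmin)
  · have hw2 : w ≠ 2 := by
      rintro rfl
      have h1 := Cfsg.Agent.OddOrderLocal.FitCores.dvd_card_of_ne_bot hw hE' hgne le_rfl
      rw [Nat.odd_iff] at hgodd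
      omega
    exact hgne (h.no_chief S hm hcl' hgs hw hw2 hw3 hE')

end H127KerBot

end Cfsg.Agent.H389.RSq
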