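import Cfsg.Agent.H389.R.RR
import Cfsg.Agent.H352.S3530.NT
import Cfsg.Agent.H829.S3530.Ree

/-!
# S3530: the kernel is not a `w`-group, `w ≠ 3` (helper127)
-/

set_option autoImplicit false
set_option linter.unusedSectionVars false

namespace Cfsg.Agent.H389.RSq

open Subgroup
open Cfsg.Agent.H389.JSq (Has)

universe u

namespace H127NoChief

open Cfsg.Agent.H381.Tools

variable {m : ℕ} {X Y : Type u} [Group X] [Finite X] [Group Y] [Finite Y] {f : X →* Y} {K L : Subgroup Y}

theorem solv {w : ℕ} (hw : w.Prime) (hV : IsPGroup w f.ker) (D : Subgroup X) :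
    Group.IsSolvable (D ⊓ f.ker : Subgroup X) := by
  have : Fact w.Prime := ⟨hw⟩
  have h1 : IsPGroup w (D ⊓ f.ker : Subgroup X) := hV.to_le inf_le_right
  have h2 := h1.isNilpotent
  infer_instance

theorem odd {w : ℕ} (hw : w.Prime) (hw2 : w ≠ 2) (hV : IsPGroup w f.ker) (D : Subgroup X) :
    Odd (Nat.card (D ⊓ f.ker : Subgroup X)) := by
  have h1 : IsPGroup w (D ⊓ f.ker : Subgroup X) := hV.to_le inf_le_right
  have h2 := not_dvd_card hw Nat.prime_two hw2.symm h1
  rw [Nat.odd_iff]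
  omega

/-- the second pivot: an element `y` of prime order `ρ` whose centralizer covers `L` and meets the kernel -/
theorem pivot_cent (hcl : Cl m X) {w : ℕ} (hw : w.Prime) (hw2 : w ≠ 2) (hV : IsPGroup w f.ker) {y : X} {ρ r v : ℕ}
    (T : Tri m ρ r w) (hy : orderOf y = ρ) (hLs : IsSimpleGroup L) (hL : L ≤ (centralizer {y}).map f)
    (hv : v.Prime) (hvr : v ≠ r) (hvw : v ≠ w) (hpiv : Piv L v r)
    (hQ : f.ker ⊓ centralizer {y} ≠ ⊥) : False := by
  obtain ⟨P, H, C⟩ := exists_cov (f := f) (D := centralizer {y}) (E := L) (solv hw hV _) hL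
  have hPd : ¬ r ∣ Nat.card (P ⊓ f.ker : Subgroup X) :=
    not_dvd_card hw T.hq T.nqr (hV.to_le inf_le_right)
  obtain ⟨x, hx, hxo, -, hfix⟩ := C.pivot (odd hw hw2 hV _) hLs le_rfl hv T.hq hvr hpiv hPd
  have hPn : P ≤ normalizer ((f.ker ⊓ centralizer {y} : Subgroup X) : Set X) := by
    intro d hd
    apply mem_normalizer_inf
    · exact (normalizer_eq_top_iff.2 (inferInstance : f.ker.Normal)) ▸ mem_top d
    · exact le_normalizer (C.le hd)
  have h1 := hfix w hw T.nqr.symm hvw.symm (f.ker ⊓ centralizer {y}) (hV.to_le inf_le_left) hQ hPn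
  obtain ⟨t, ht, hto⟩ := exists_mem_of_ne_bot hw ((hV.to_le inf_le_left).to_le inf_le_left) h1
  rw [mem_fix, mem_fix] at ht
  exact hcl.no_comm T hy hxo hto (mem_cent_iff.mp (C.le hx)) ht.1.2 ht.2

theorem dvd_of_cls {p : ℕ} (h : cls m p = 1) : p ∣ 3 ^ (2 * m + 1) - 1 := by
  by_contra hc
  simp only [cls, hc, if_false] at h
  split_ifs at h <;> exact absurd h (by decide)

end H127NoChief

section
variable {m : ℕ} {σ : Fin 5 → ℕ} {X Y : Type u} [Group X] [Finite X] [Group Y] [Finite Y] {f : X →* Y}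
  {K L : Subgroup Y}

open H127NoChief Cfsg.Agent.H381.Tools in
/-- the kernel is not a nontrivial `w`-group, `w ≠ 3` -/
theorem RR.no_chief (h : RR m Y K L) (S : Sig m σ) (hm : 1 ≤ m) (hcl : Cl m X) (hf : Function.Surjective f) {w : ℕ}
    (hw : w.Prime) (hw2 : w ≠ 2) (hw3 : w ≠ 3) (hV : IsPGroup w f.ker) : f.ker = ⊥ := by
  by_contra hne
  have htop : (⊤ : Subgroup X).map f = ⊤ := by
    rw [← MonoidHom.range_eq_map, MonoidHom.range_eq_top]; exact hf
  obtain ⟨P, H, C⟩ := exists_cov (f := f) (D := ⊤) (E := K ⊔ L) (solv hw hV _) (by rw [htop]; exact le_top)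
  have hP3 : ¬ 3 ∣ Nat.card (P ⊓ f.ker : Subgroup X) :=
    not_dvd_card hw Nat.prime_three hw3.symm (hV.to_le inf_le_right)
  obtain ⟨z, hz, hzo, hzK, hfix⟩ := C.pivot (odd hw hw2 hV _) h.reeK.simple le_sup_left Nat.prime_two
    Nat.prime_three (by norm_num) h.reeK.piv_three hP3
  have hkn : f.ker.Normal := inferInstance
  have hQ := hfix w hw hw3 hw2 f.ker hV hne (by rw [normalizer_eq_top_iff.2 hkn]; exact le_top)
  have hLc : L ≤ centralizer {f z} := by
    intro l hl
    rw [mem_cent_iff]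
    exact (mem_centralizer_iff.mp (h.comm hzK) l hl).symm
  have hL : L ≤ (centralizer {z}).map f := by
    have h1 := le_map_centralizer (f := f) hz (by
      rw [hzo]; exact (Nat.Prime.coprime_iff_not_dvd Nat.prime_three).mpr hP3) (L := L)
      (by rw [C.map]; exact le_sup_right) hLc
    exact h1.trans (map_mono inf_le_right)
  have c7 := cls_seven hm
  have cw : cls m w ≠ 0 := fun e => hw3 (cls_zero e)
  by_cases h7 : cls m w = cls m 7
  · have c1 : cls m (σ 1) = 1 := S.cls 1
    refine pivot_cent hcl hw hw2 hV (ρ := 3) (r := σ 1) (v := 3) ⟨Nat.prime_three, S.prime 1, hw, by norm_num,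
      S.ne_two 1, hw2, ?_, ?_, ?_⟩ hzo h.reeL.simple hL Nat.prime_three ?_ hw3.symm
      (h.reeL.piv (S.prime 1) (S.ne_two 1) (dvd_of_cls c1)) hQ
    · rw [cls_three, c1]; decide
    · rw [cls_three]; exact cw.symm
    · rw [c1, h7]; exact c7.2.2.symm
    · intro e
      rw [← e, cls_three] at c1
      exact absurd c1 (by decide)
  · refine pivot_cent hcl hw hw2 hV (ρ := 3) (r := 7) (v := 2) ⟨Nat.prime_three, by norm_num, hw, by norm_num,
      by norm_num, hw2, ?_, ?_, ?_⟩ hzo h.reeL.simple hL Nat.prime_two (by norm_num) hw2.symm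
      h.reeL.piv_seven hQ
    · rw [cls_three]; exact c7.2.1.symm
    · rw [cls_three]; exact cw.symm
    · exact fun e => h7 e.symm

end

end Cfsg.Agent.H389.RSq
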