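import Cfsg.Agent.H389.R.RR
import Cfsg.Agent.H352.S3530.NT

/-!
# S3530: no outer part, modulo the automorphisms of `²G₂(q)` (helper127)

`H127Sup.sup_eq_top_of`: a group `Y` with `²G₂(q) × ²G₂(q) ⊴ Y` of odd index, trivial centralizer and the element
orders of class `Cl m` is `²G₂(q) × ²G₂(q)`, given the statement `IsRee.aut` for subgroups of `Y`.
-/

set_option autoImplicit false
set_option linter.unusedSectionVars false

namespace Cfsg.Agent.H389.RSq

open Subgroup
open Cfsg.Agent.H389.JSq (Has)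

universe u

namespace H127Sup

variable {m : ℕ} {Y : Type u} [Group Y] {K L : Subgroup Y}

/-- the automorphism induced by an element centralising `K` -/
theorem conjNormal_eq_one [K.Normal] {l : Y} (hl : l ∈ centralizer (K : Set Y)) :
    (MulAut.conjNormal l : MulAut K) = 1 := by
  ext x
  rw [MulAut.conjNormal_apply]
  have := mem_centralizer_iff.mp hl x x.2
  rw [← this]
  simp

theorem mem_centralizer_of_conjNormal [K.Normal] {l : Y} (hl : (MulAut.conjNormal l : MulAut K) = 1) :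
    l ∈ centralizer (K : Set Y) := by
  rw [mem_centralizer_iff]
  intro x hx
  have h1 : (MulAut.conjNormal l : MulAut K) ⟨x, hx⟩ = ⟨x, hx⟩ := by rw [hl]; rfl
  have h2 := congrArg Subtype.val h1
  rw [MulAut.conjNormal_apply] at h2
  exact (mul_inv_eq_iff_eq_mul.mp h2).symm

theorem conjNormal_coe [K.Normal] (k : K) : (MulAut.conjNormal (k : Y) : MulAut K) = MulAut.conj k := by
  ext x
  rw [MulAut.conjNormal_apply]
  rfl

theorem commute_of_fix [K.Normal] {y : Y} {x : K} (h : (MulAut.conjNormal y : MulAut K) x = x) :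
    Commute y (x : Y) := by
  have h2 := congrArg Subtype.val h
  rw [MulAut.conjNormal_apply] at h2
  exact mul_inv_eq_iff_eq_mul.mp h2

/-- the cube of `x y`, `y ^ 3 = 1` -/
theorem cube [K.Normal] [Finite Y] {y : Y} (hy : y ^ 3 = 1) {x : K} {τ : MulAut K}
    (hτ : (MulAut.conjNormal y : MulAut K) = τ) (hx : orderOf (x * τ x * τ (τ x)) = 9) :
    27 ∣ orderOf ((x : Y) * y) := by
  have h1 : ((x : Y) * y) ^ 3 = ((x * τ x * τ (τ x) : K) : Y) := by
    subst hτ
    rw [coe_mul, coe_mul, MulAut.conjNormal_apply, MulAut.conjNormal_apply, MulAut.conjNormal_apply]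
    calc ((x : Y) * y) ^ 3 = x * (y * x * y⁻¹) * (y * (y * x * y⁻¹) * y⁻¹) * y ^ 3 := by
          rw [pow_succ, pow_two]; group
      _ = _ := by rw [hy, mul_one]
  have h2 : orderOf (((x : Y) * y) ^ 3) = 9 := by rw [h1, Subgroup.orderOf_coe, hx]
  have h3 : 9 ∣ orderOf ((x : Y) * y) := by rw [← h2]; exact orderOf_pow_dvd 3
  have h4 := orderOf_pow_of_dvd (x := (x : Y) * y) (n := 3) (by norm_num) ((by norm_num : 3 ∣ 9).trans h3)
  rw [h2] at h4
  have h5 : orderOf ((x : Y) * y) = 27 := by omega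
  rw [h5]

theorem cls_thirteen (h : cls m 7 = 2) : 3 ∣ 2 * m + 1 ∧ cls m 13 = 1 := by
  have h1 : 7 ∣ 3 ^ (2 * m + 1) + 1 := by
    by_contra hc
    simp only [cls, hc, if_false] at h
    split_ifs at h <;> exact absurd h (by decide)
  have h3 : 3 ∣ 2 * m + 1 := by
    have h4 : ∃ k j, 2 * m + 1 = 6 * k + j ∧ (j = 1 ∨ j = 3 ∨ j = 5) :=
      ⟨(2 * m + 1) / 6, (2 * m + 1) % 6, by omega, by omega⟩
    obtain ⟨k, j, hk, hj⟩ := h4
    have h5 : (3 : ℕ) ^ (6 * k) % 7 = 1 := by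
      rw [pow_mul, Nat.pow_mod]; norm_num
    have h6 : (3 ^ (6 * k + j) + 1) % 7 = 0 := by rw [← hk]; exact Nat.mod_eq_zero_of_dvd h1
    rcases hj with rfl | rfl | rfl
    · rw [pow_add] at h6; omega
    · omega
    · rw [pow_add] at h6; omega
  refine ⟨h3, ?_⟩
  have h4 : 13 ∣ 3 ^ (2 * m + 1) - 1 := by
    obtain ⟨k, hk⟩ := h3
    rw [hk, pow_mul]
    have : (3 ^ 3 : ℕ) - 1 ∣ (3 ^ 3) ^ k - 1 := by
      have := Nat.sub_dvd_pow_sub_pow (3 ^ 3) 1 k
      rwa [one_pow] at this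
    exact (by norm_num : 13 ∣ 3 ^ 3 - 1).trans this
  simp [cls, h4]

/-- the kernel of the argument: `y` of prime order `r` inducing `τ₁` on `K` and `τ₂` on `L` -/
theorem main [Finite Y] (h : RR m Y K L) (hm : 1 ≤ m) (hcl : Cl m Y) [K.Normal] [L.Normal] {r : ℕ} (hr : r.Prime) (hr2 : r ≠ 2)
    {y : Y} (hy : orderOf y = r) {τ₁ : MulAut K} {τ₂ : MulAut L}
    (h1 : (MulAut.conjNormal y : MulAut K) = τ₁) (h2 : (MulAut.conjNormal y : MulAut L) = τ₂)
    (f1 : ∀ n ∈ ({2, 3, 7, 9} : Finset ℕ), ∃ x : K, orderOf x = n ∧ τ₁ x = x)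
    (f2 : ∀ n ∈ ({2, 3, 7, 9} : Finset ℕ), ∃ x : L, orderOf x = n ∧ τ₂ x = x)
    (g1 : 3 ∣ 2 * m + 1 → r ≠ 3 → ∃ x : K, orderOf x = 13 ∧ τ₁ x = x)
    (t1 : r = 3 → τ₁ ≠ 1 → ∃ x : K, orderOf (x * τ₁ x * τ₁ (τ₁ x)) = 9)
    (t2 : r = 3 → τ₂ ≠ 1 → ∃ x : L, orderOf (x * τ₂ x * τ₂ (τ₂ x)) = 9) : False := by
  have hKL : ∀ (a : K) (b : L), Commute (a : Y) (b : Y) := fun a b =>
    ((mem_centralizer_iff.mp (h.comm a.2) b b.2).symm : (a : Y) * b = b * a)
  have key : ∀ (a : K) (b : L) (i j : ℕ), orderOf a = i → orderOf b = j → τ₁ a = a → τ₂ b = b →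
      Commute y (a : Y) ∧ Commute y (b : Y) ∧ orderOf (a : Y) = i ∧ orderOf (b : Y) = j := by
    intro a b i j ha hb hta htb
    refine ⟨commute_of_fix (by rw [h1]; exact hta), commute_of_fix (by rw [h2]; exact htb), ?_, ?_⟩
    · rw [Subgroup.orderOf_coe, ha]
    · rw [Subgroup.orderOf_coe, hb]
  by_cases h3 : r = 3
  · subst h3
    have hy3 : y ^ 3 = 1 := by rw [← hy]; exact pow_orderOf_eq_one y
    by_cases ht1 : τ₁ = 1
    · by_cases ht2 : τ₂ = 1
      · have c1 : y ∈ centralizer (K : Set Y) := mem_centralizer_of_conjNormal (h1.trans ht1)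
        have c2 : y ∈ centralizer (L : Set Y) := mem_centralizer_of_conjNormal (h2.trans ht2)
        have c3 : y ∈ centralizer ((K ⊔ L : Subgroup Y) : Set Y) := by
          have : K ⊔ L ≤ centralizer {y} := by
            apply sup_le
            · intro x hx
              rw [mem_centralizer_singleton_iff]
              exact mem_centralizer_iff.mp c1 x hx
            · intro x hx
              rw [mem_centralizer_singleton_iff]
              exact mem_centralizer_iff.mp c2 x hx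
          rw [mem_centralizer_iff]
          intro x hx
          exact mem_centralizer_singleton_iff.mp (this hx)
        rw [h.cent, mem_bot] at c3
        rw [c3, orderOf_one] at hy
        omega
      · obtain ⟨x, hx⟩ := t2 rfl ht2
        exact hcl.nine _ (cube hy3 h2 hx)
    · obtain ⟨x, hx⟩ := t1 rfl ht1
      exact hcl.nine _ (cube hy3 h1 hx)
  have hc0 : cls m r ≠ 0 := fun e => h3 (cls_zero e)
  have h7 := cls_seven hm
  obtain ⟨x3, hx3, hf3⟩ := f2 3 (by simp)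
  by_cases h34 : cls m r = 3 ∨ cls m r = 4
  · obtain ⟨x9, hx9, hf9⟩ := f1 9 (by simp)
    obtain ⟨x2, hx2, hf2⟩ := f2 2 (by simp)
    obtain ⟨c1, c2, o1, o2⟩ := key x9 x2 9 2 hx9 hx2 hf9 hf2
    have hr9 : r.Coprime 9 := by
      rw [show (9 : ℕ) = 3 ^ 2 by norm_num]
      exact Nat.Coprime.pow_right 2 ((Nat.coprime_primes hr Nat.prime_three).mpr h3)
    have ho := H381.Tools.orderOf_mul3 c1 c2 (hKL x9 x2) hy o1 o2 hr9
      ((Nat.coprime_primes hr Nat.prime_two).mpr hr2) (by norm_num)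
    refine hcl.eighteen (y * x9 * x2) r hr h34 ?_ ?_
    · rw [ho, mul_assoc]; exact Dvd.intro _ rfl
    · rw [ho, mul_assoc]; exact Dvd.intro_left _ rfl
  by_cases hr7 : cls m r = cls m 7
  · have hr2' : cls m 7 = 2 := by
      rw [hr7] at h34 hc0
      have hx : ∀ c : Fin 5, c ≠ 0 → c ≠ 1 → ¬ (c = 3 ∨ c = 4) → c = 2 := by decide
      exact hx _ hc0 h7.2.2 h34
    obtain ⟨h13, c13⟩ := cls_thirteen hr2'
    obtain ⟨x, hx, hfx⟩ := g1 h13 h3
    obtain ⟨c1, c2, o1, o2⟩ := key x x3 13 3 hx hx3 hfx hf3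
    refine hcl.no_comm (p := r) (q := 13) (r := 3) ⟨hr, by norm_num, by norm_num, hr2, by norm_num, by norm_num, ?_, ?_, ?_⟩ hy o1
      o2 c1 c2 (hKL x x3)
    · rw [hr7, hr2', c13]; decide
    · rw [hr7, hr2', cls_three]; decide
    · rw [c13, cls_three]; decide
  · obtain ⟨x, hx, hfx⟩ := f1 7 (by simp)
    obtain ⟨c1, c2, o1, o2⟩ := key x x3 7 3 hx hx3 hfx hf3
    refine hcl.no_comm (p := r) (q := 7) (r := 3) ⟨hr, by norm_num, by norm_num, hr2, by norm_num, by norm_num, hr7, ?_, ?_⟩ hy o1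
      o2 c1 c2 (hKL x x3)
    · rw [cls_three]; exact hc0
    · rw [cls_three]; exact h7.2.1

/-- the statement `IsRee.aut` -/
def AutP (m : ℕ) (L : Type u) [Group L] : Prop :=
  ∀ (α : MulAut L) {r : ℕ}, r.Prime → r ≠ 2 → (∃ g : L, α ^ r = MulAut.conj g) →
    ∃ (g : L) (τ : MulAut L), α = MulAut.conj g * τ ∧ τ ^ r = 1 ∧
      (∀ n ∈ ({2, 3, 7, 9} : Finset ℕ), ∃ x : L, orderOf x = n ∧ τ x = x) ∧
      (3 ∣ 2 * m + 1 → r ≠ 3 → ∃ x : L, orderOf x = 13 ∧ τ x = x) ∧
      (r = 3 → τ ≠ 1 → ∃ x : L, orderOf (x * τ x * τ (τ x)) = 9)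

/-- no outer part -/
theorem sup_eq_top_of [Finite Y] (h : RR m Y K L) (hcl : Cl m Y) (aK : AutP m K) (aL : AutP m L) : K ⊔ L = ⊤ := by
  by_contra hne
  have nK := h.normalK
  have nL := h.normalL
  set E : Subgroup Y := K ⊔ L with hE
  have nE : E.Normal := inferInstance
  have hi : E.index ≠ 1 := fun e => hne (index_eq_one.mp e)
  obtain ⟨r, hr, hrd⟩ := Nat.exists_prime_and_dvd hi
  have hr2 : r ≠ 2 := by
    rintro rfl
    have := h.index
    rw [Nat.odd_iff] at this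
    change E.index % 2 = 1 at this
    omega
  have : Fact r.Prime := ⟨hr⟩
  obtain ⟨q, hq⟩ := exists_prime_orderOf_dvd_card' (G := Y ⧸ E) r (by rw [← index_eq_card]; exact hrd)
  obtain ⟨y, rfl⟩ := QuotientGroup.mk_surjective q
  have hyE : y ∉ E := by
    intro hy
    rw [(QuotientGroup.eq_one_iff y).mpr hy, orderOf_one] at hq
    exact hr.one_lt.ne hq
  have hyr : y ^ r ∈ E := by
    rw [← QuotientGroup.eq_one_iff, QuotientGroup.mk_pow, ← hq]
    exact pow_orderOf_eq_one _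
  obtain ⟨k, hk, l, hl, hkl⟩ := mem_sup_of_normal_left.mp hyr
  have cKL : ∀ l ∈ L, l ∈ centralizer (K : Set Y) := fun l hl => le_centralizer_iff.mp h.comm hl
  have cLK : ∀ k ∈ K, k ∈ centralizer (L : Set Y) := fun k hk => h.comm hk
  have hα : (MulAut.conjNormal y : MulAut K) ^ r = MulAut.conj (⟨k, hk⟩ : K) := by
    rw [← map_pow, ← hkl, map_mul, conjNormal_eq_one (cKL l hl), mul_one]
    exact conjNormal_coe (⟨k, hk⟩ : K)
  have hβ : (MulAut.conjNormal y : MulAut L) ^ r = MulAut.conj (⟨l, hl⟩ : L) := by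
    rw [← map_pow, ← hkl, map_mul, conjNormal_eq_one (cLK k hk), one_mul]
    exact conjNormal_coe (⟨l, hl⟩ : L)
  obtain ⟨g, τ₁, e1, p1, f1, g1, t1⟩ := aK (MulAut.conjNormal y : MulAut K) hr hr2 ⟨_, hα⟩
  obtain ⟨g', τ₂, e2, p2, f2, g2, t2⟩ := aL (MulAut.conjNormal y : MulAut L) hr hr2 ⟨_, hβ⟩
  set z : Y := (g : Y)⁻¹ * (g' : Y)⁻¹ * y with hz
  have z1 : (MulAut.conjNormal z : MulAut K) = τ₁ := by
    rw [hz, map_mul, map_mul, conjNormal_eq_one (K := K) (cKL _ (inv_mem g'.2)), mul_one, e1, map_inv,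
      conjNormal_coe, inv_mul_cancel_left]
  have z2 : (MulAut.conjNormal z : MulAut L) = τ₂ := by
    rw [hz, map_mul, map_mul, conjNormal_eq_one (K := L) (cLK _ (inv_mem g.2)), one_mul, e2, map_inv,
      conjNormal_coe, inv_mul_cancel_left]
  have hzE : z ∉ E := by
    intro hzE
    apply hyE
    have h3 : (g' : Y) * (g : Y) * z ∈ E :=
      mul_mem (mul_mem ((le_sup_right : L ≤ K ⊔ L) g'.2) ((le_sup_left : K ≤ K ⊔ L) g.2)) hzE
    have h4 : (g' : Y) * (g : Y) * z = y := by rw [hz]; group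
    rwa [h4] at h3
  have hzr : z ^ r = 1 := by
    have c1 : z ^ r ∈ centralizer (K : Set Y) := mem_centralizer_of_conjNormal (by rw [map_pow, z1, p1])
    have c2 : z ^ r ∈ centralizer (L : Set Y) := mem_centralizer_of_conjNormal (by rw [map_pow, z2, p2])
    have c3 : z ^ r ∈ centralizer ((K ⊔ L : Subgroup Y) : Set Y) := by
      have : K ⊔ L ≤ centralizer {z ^ r} := by
        apply sup_le
        · intro x hx
          rw [mem_centralizer_singleton_iff]
          exact mem_centralizer_iff.mp c1 x hx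
        · intro x hx
          rw [mem_centralizer_singleton_iff]
          exact mem_centralizer_iff.mp c2 x hx
      rw [mem_centralizer_iff]
      intro x hx
      exact mem_centralizer_singleton_iff.mp (this hx)
    rw [h.cent, mem_bot] at c3
    exact c3
  have hzo : orderOf z = r := orderOf_eq_prime hzr (fun e => hzE (by rw [e]; exact one_mem _))
  exact main h h.reeK.1 hcl hr hr2 hzo z1 z2 f1 f2 g1 t1 t2

end H127Sup

end Cfsg.Agent.H389.RSq
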